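import Cfsg.Agent.Chev.Special.Check
import Cfsg.Agent.Chev.DataG2

/-! Kernel verification of the exceptional isogeny tables of type G2. -/

set_option autoImplicit false
set_option maxRecDepth 100000
set_option linter.style.longLine false

namespace CfsgLib.Chev.Special

/-- The exceptional isogeny of type G2 in characteristic 3. -/
def specG2 : Spec where
  p := 3
  inI := fun j => ([0, 4, 5, 6, 9, 10, 11] : List ℕ).elem j
  bar := fun j => ([1, 0, 4, 5, 2, 3, 7, 6, 9, 8, 12, 13, 10, 11] : List ℕ).getD j 0
  spanI := [(1, [(1, 7)]), (1, [(1, 4), (-1, 3)])]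
  spanO := [(3, [(1, 5), (-1, 1)]), (1, [(1, 6)])]

theorem specG2_valid : specG2.Valid DataG2.tbl where
  bar := by decide +kernel
  block := by decide +kernel
  span := by decide +kernel

end CfsgLib.Chev.Special
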