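/-! The orbits of two pairs of orthogonal roots of `F₄` under the Weyl group. -/

set_option autoImplicit false

namespace CfsgLib.Chev.F4Pair

/-- The orbit of the pair of the two highest roots. -/
def orbTop : List (Nat × Nat) :=
  [(0, 3), (0, 7), (0, 8), (0, 9), (0, 11), (0, 18), (1, 3), (1, 7), (1, 8), (1, 10), (1, 12), (1, 19),
   (2, 3), (2, 7), (2, 9), (2, 10), (2, 13), (2, 20), (4, 3), (4, 8), (4, 11), (4, 12), (4, 14), (4, 27),
   (5, 3), (5, 9), (5, 11), (5, 13), (5, 14), (5, 28), (6, 3), (6, 10), (6, 12), (6, 13), (6, 14), (6, 29),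
   (15, 7), (15, 8), (15, 18), (15, 19), (15, 33), (15, 34), (16, 7), (16, 9), (16, 18), (16, 20), (16, 33), (16, 35),
   (17, 7), (17, 10), (17, 19), (17, 20), (17, 33), (17, 36), (21, 8), (21, 11), (21, 18), (21, 27), (21, 34), (21, 37),
   (22, 8), (22, 12), (22, 19), (22, 27), (22, 34), (22, 38), (23, 9), (23, 11), (23, 18), (23, 28), (23, 35), (23, 37),
   (24, 10), (24, 12), (24, 19), (24, 29), (24, 36), (24, 38), (25, 9), (25, 13), (25, 20), (25, 28), (25, 35), (25, 39),
   (26, 10), (26, 13), (26, 20), (26, 29), (26, 36), (26, 39), (30, 11), (30, 14), (30, 27), (30, 28), (30, 37), (30, 40),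
   (31, 12), (31, 14), (31, 27), (31, 29), (31, 38), (31, 40), (32, 13), (32, 14), (32, 28), (32, 29), (32, 39), (32, 40),
   (41, 18), (41, 33), (41, 34), (41, 35), (41, 37), (41, 44), (42, 19), (42, 33), (42, 34), (42, 36), (42, 38), (42, 44),
   (43, 20), (43, 33), (43, 35), (43, 36), (43, 39), (43, 44), (45, 27), (45, 34), (45, 37), (45, 38), (45, 40), (45, 44),
   (46, 28), (46, 35), (46, 37), (46, 39), (46, 40), (46, 44), (47, 29), (47, 36), (47, 38), (47, 39), (47, 40), (47, 44)]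

/-- The orbit of the pair of `(1,2,2,1)` and `(2,4,2,1)`. -/
def orbMid : List (Nat × Nat) :=
  [(3, 15), (3, 16), (3, 17), (3, 21), (3, 22), (3, 23), (3, 24), (3, 25), (3, 26), (3, 30), (3, 31), (3, 32),
   (7, 4), (7, 5), (7, 6), (7, 21), (7, 22), (7, 23), (7, 24), (7, 25), (7, 26), (7, 41), (7, 42), (7, 43),
   (8, 2), (8, 5), (8, 6), (8, 16), (8, 17), (8, 23), (8, 24), (8, 30), (8, 31), (8, 41), (8, 42), (8, 45),
   (9, 1), (9, 4), (9, 6), (9, 15), (9, 17), (9, 21), (9, 26), (9, 30), (9, 32), (9, 41), (9, 43), (9, 46),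
   (10, 0), (10, 4), (10, 5), (10, 15), (10, 16), (10, 22), (10, 25), (10, 31), (10, 32), (10, 42), (10, 43), (10, 47),
   (11, 1), (11, 2), (11, 6), (11, 15), (11, 16), (11, 22), (11, 25), (11, 31), (11, 32), (11, 41), (11, 45), (11, 46),
   (12, 0), (12, 2), (12, 5), (12, 15), (12, 17), (12, 21), (12, 26), (12, 30), (12, 32), (12, 42), (12, 45), (12, 47),
   (13, 0), (13, 1), (13, 4), (13, 16), (13, 17), (13, 23), (13, 24), (13, 30), (13, 31), (13, 43), (13, 46), (13, 47),
   (14, 0), (14, 1), (14, 2), (14, 21), (14, 22), (14, 23), (14, 24), (14, 25), (14, 26), (14, 45), (14, 46), (14, 47),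
   (18, 1), (18, 2), (18, 4), (18, 5), (18, 17), (18, 22), (18, 25), (18, 30), (18, 42), (18, 43), (18, 45), (18, 46),
   (19, 0), (19, 2), (19, 4), (19, 6), (19, 16), (19, 21), (19, 26), (19, 31), (19, 41), (19, 43), (19, 45), (19, 47),
   (20, 0), (20, 1), (20, 5), (20, 6), (20, 15), (20, 23), (20, 24), (20, 32), (20, 41), (20, 42), (20, 46), (20, 47),
   (27, 0), (27, 1), (27, 5), (27, 6), (27, 15), (27, 23), (27, 24), (27, 32), (27, 41), (27, 42), (27, 46), (27, 47),
   (28, 0), (28, 2), (28, 4), (28, 6), (28, 16), (28, 21), (28, 26), (28, 31), (28, 41), (28, 43), (28, 45), (28, 47),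
   (29, 1), (29, 2), (29, 4), (29, 5), (29, 17), (29, 22), (29, 25), (29, 30), (29, 42), (29, 43), (29, 45), (29, 46),
   (33, 0), (33, 1), (33, 2), (33, 21), (33, 22), (33, 23), (33, 24), (33, 25), (33, 26), (33, 45), (33, 46), (33, 47),
   (34, 0), (34, 1), (34, 4), (34, 16), (34, 17), (34, 23), (34, 24), (34, 30), (34, 31), (34, 43), (34, 46), (34, 47),
   (35, 0), (35, 2), (35, 5), (35, 15), (35, 17), (35, 21), (35, 26), (35, 30), (35, 32), (35, 42), (35, 45), (35, 47),
   (36, 1), (36, 2), (36, 6), (36, 15), (36, 16), (36, 22), (36, 25), (36, 31), (36, 32), (36, 41), (36, 45), (36, 46),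
   (37, 0), (37, 4), (37, 5), (37, 15), (37, 16), (37, 22), (37, 25), (37, 31), (37, 32), (37, 42), (37, 43), (37, 47),
   (38, 1), (38, 4), (38, 6), (38, 15), (38, 17), (38, 21), (38, 26), (38, 30), (38, 32), (38, 41), (38, 43), (38, 46),
   (39, 2), (39, 5), (39, 6), (39, 16), (39, 17), (39, 23), (39, 24), (39, 30), (39, 31), (39, 41), (39, 42), (39, 45),
   (40, 4), (40, 5), (40, 6), (40, 21), (40, 22), (40, 23), (40, 24), (40, 25), (40, 26), (40, 41), (40, 42), (40, 43),
   (44, 15), (44, 16), (44, 17), (44, 21), (44, 22), (44, 23), (44, 24), (44, 25), (44, 26), (44, 30), (44, 31), (44, 32)]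

end CfsgLib.Chev.F4Pair
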